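/-
An integral scheme over a quasi-compact quasi-separated base has a finite quotient into which a
given quasi-compact open subscheme of finite type embeds (finite form of Zariski's Main Theorem).
-/
import Groth.Agent.FPApproxLib.FiniteModel

set_option autoImplicit false
set_option linter.style.haveILetI false
set_option backward.isDefEq.respectTransparency false
set_option backward.isDefEq.respectTransparency.types false

universe u

open CategoryTheory CategoryTheory.Limits AlgebraicGeometry TopologicalSpace Opposite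

noncomputable section

namespace Groth.Agent.ZMTFactorLib

variable {S Z : Scheme.{u}}

theorem isUnit_res {Y : Scheme.{u}} {U : Y.Opens} (a : Γ(Y, U)) (n : ℕ) {D : Y.Opens} (h : D ≤ U) (e : D ≤ Y.basicOpen a) :
    IsUnit ((Y.presheaf.map (homOfLE h).op).hom a ^ n) := by
  have h1 : IsUnit ((Y.presheaf.map (homOfLE (Y.basicOpen_le a)).op).hom a) := Y.toRingedSpace.isUnit_res_basicOpen a
  have h2 := (h1.map (Y.presheaf.map (homOfLE e).op).hom).pow n
  rwa [← CommRingCat.comp_apply, ← Functor.map_comp] at h2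

/-- If `θ` is injective and generators of `Γ(D(b))` come from the target, the map of basic opens is bijective. -/
theorem bijective_appLE_basicOpen {T : Scheme.{u}} (q : Z ⟶ T) {W₀ : T.Opens} (hW₀ : IsAffineOpen W₀)
    {O : Z.Opens} (hO : IsAffineOpen O) (e : O ≤ q ⁻¹ᵁ W₀) (hinj : Function.Injective (q.appLE W₀ O e).hom)
    (β : Γ(T, W₀)) (b : Γ(Z, O)) (hb : (q.appLE W₀ O e).hom β = b) (e' : Z.basicOpen b ≤ q ⁻¹ᵁ T.basicOpen β)
    (R₀ : Subring Γ(Z, Z.basicOpen b))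
    (hR₀ : ∀ z ∈ R₀, ∃ (n : ℕ) (c : Γ(T, W₀)), z * (Z.presheaf.map (homOfLE (Z.basicOpen_le b)).op).hom b ^ n =
      (Z.presheaf.map (homOfLE (Z.basicOpen_le b)).op).hom ((q.appLE W₀ O e).hom c)) (htop : R₀ = ⊤) :
    Function.Bijective (q.appLE (T.basicOpen β) (Z.basicOpen b) e').hom := by
  let φ := (q.appLE (T.basicOpen β) (Z.basicOpen b) e').hom
  have hcomm : ∀ w, φ ((T.presheaf.map (homOfLE (T.basicOpen_le β)).op).hom w) =
      (Z.presheaf.map (homOfLE (Z.basicOpen_le b)).op).hom ((q.appLE W₀ O e).hom w) := fun w => by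
    simp only [φ, ← CommRingCat.comp_apply, Scheme.Hom.map_appLE, Scheme.Hom.appLE_map]
  constructor
  · rw [injective_iff_map_eq_zero]
    intro z hz
    haveI := hW₀.isLocalization_basicOpen β
    haveI := hO.isLocalization_basicOpen b
    obtain ⟨n, w, hw⟩ := IsLocalization.Away.surj β z
    change z * (T.presheaf.map (homOfLE (T.basicOpen_le β)).op).hom β ^ n = (T.presheaf.map (homOfLE (T.basicOpen_le β)).op).hom w at hw
    have h2 := congrArg φ hw
    rw [map_mul, show φ z = 0 from hz, zero_mul, hcomm] at h2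
    obtain ⟨⟨_, m, rfl⟩, hm⟩ := (IsLocalization.map_eq_zero_iff (Submonoid.powers b) Γ(Z, Z.basicOpen b) _).1 h2.symm
    dsimp only at hm
    rw [← hb, ← map_pow, ← map_mul] at hm
    have hm2 := congrArg (T.presheaf.map (homOfLE (T.basicOpen_le β)).op).hom (hinj (hm.trans (map_zero _).symm))
    rw [map_mul, map_zero, map_pow, ← hw, mul_comm z, ← mul_assoc, ← pow_add] at hm2
    exact (isUnit_res β _ (T.basicOpen_le β) le_rfl).mul_right_eq_zero.1 hm2
  · intro z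
    obtain ⟨n, c, hc⟩ := hR₀ z (htop ▸ Subring.mem_top z)
    obtain ⟨v, hv⟩ := isUnit_res β n (T.basicOpen_le β) le_rfl
    refine ⟨(T.presheaf.map (homOfLE (T.basicOpen_le β)).op).hom c * ↑v⁻¹, ?_⟩
    refine (isUnit_res b n (Z.basicOpen_le b) le_rfl).mul_left_inj.1 ?_
    show φ _ * _ = _
    rw [hc, map_mul, hcomm, mul_assoc]
    convert mul_one _
    rw [← show φ _ = (Z.presheaf.map (homOfLE (Z.basicOpen_le b)).op).hom b from (hcomm β).trans (congrArg _ hb),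
      ← map_pow, ← hv, ← map_mul, Units.inv_mul, map_one]

theorem exists_finite_factor {X : Scheme.{u}} [CompactSpace S] [QuasiSeparatedSpace S] (π : Z ⟶ S) [IsIntegralHom π]
    (j : X ⟶ Z) [IsOpenImmersion j] [QuasiCompact j] [LocallyOfFiniteType (j ≫ π)] :
    ∃ (T : Scheme.{u}) (q : Z ⟶ T) (g : T ⟶ S), IsFinite g ∧ q ≫ g = π ∧ IsOpenImmersion (j ≫ q) ∧
      QuasiCompact (j ≫ q) := by
  classical
  haveI : CompactSpace Z := QuasiCompact.compactSpace_of_compactSpace π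
  haveI : CompactSpace X := QuasiCompact.compactSpace_of_compactSpace j
  -- local data
  have hx : ∀ x : X, ∃ (V : S.affineOpens) (b : Γ(Z, π ⁻¹ᵁ V.1)), j x ∈ Z.basicOpen b ∧
      Z.basicOpen b ≤ j.opensRange := fun x => by
    obtain ⟨V, hV, hxV, -⟩ := exists_isAffineOpen_mem_and_subset (X := S) (x := π (j x)) (U := ⊤) trivial
    obtain ⟨b, hb, hxb⟩ := (hV.preimage π).exists_basicOpen_le (V := j.opensRange) ⟨j x, ⟨x, rfl⟩⟩ hxV
    exact ⟨⟨V, hV⟩, b, hxb, hb⟩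
  choose V b hxb hbj using hx
  obtain ⟨t, ht⟩ := isCompact_univ.elim_finite_subcover (fun x : X => ((j ⁻¹ᵁ Z.basicOpen (b x) : X.Opens) : Set X))
    (fun x => (j ⁻¹ᵁ Z.basicOpen (b x)).isOpen) fun x _ => Set.mem_iUnion.2 ⟨x, hxb x⟩
  have hft : ∀ x : t, ∃ G : Finset Γ(Z, Z.basicOpen (b x.1)), ∀ R : Subring Γ(Z, Z.basicOpen (b x.1)),
      (∀ r, (π.appLE (V x.1).1 (Z.basicOpen (b x.1)) (Z.basicOpen_le _)).hom r ∈ R) → (∀ z ∈ G, z ∈ R) → R = ⊤ := fun x => by
    let D := Z.basicOpen (b x.1)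
    have hD : IsAffineOpen D := ((V x.1).2.preimage π).basicOpen _
    have hO : IsAffineOpen (j ⁻¹ᵁ D) := hD.preimage_of_isOpenImmersion j (hbj x.1)
    have h := HasRingHomProperty.appLE (P := @LocallyOfFiniteType) (j ≫ π) inferInstance (V x.1)
      ⟨j ⁻¹ᵁ D, hO⟩ (fun y hy => Z.basicOpen_le (b x.1) hy)
    rw [← Scheme.Hom.appLE_comp_appLE j π (U := (V x.1).1) (V := D) (W := j ⁻¹ᵁ D) (Z.basicOpen_le _) le_rfl,
      Scheme.Hom.appLE_eq_app, CommRingCat.hom_comp] at h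
    haveI : IsIso (j.app D) := Scheme.Hom.isIso_app j D (hbj x.1)
    letI := (π.appLE (V x.1).1 D (Z.basicOpen_le _)).hom.toAlgebra
    letI := ((j.app D).hom.comp (π.appLE (V x.1).1 D (Z.basicOpen_le _)).hom).toAlgebra
    haveI : Algebra.FiniteType Γ(S, (V x.1).1) Γ(X, j ⁻¹ᵁ D) := h
    obtain ⟨c, hc⟩ := (Algebra.FiniteType.out : (⊤ : Subalgebra Γ(S, (V x.1).1) Γ(X, j ⁻¹ᵁ D)).FG)
    refine ⟨c.image (inv (j.app D)).hom, fun R h1 h2 => eq_top_iff.mpr fun z _ => ?_⟩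
    let R' : Subalgebra Γ(S, (V x.1).1) Γ(X, j ⁻¹ᵁ D) :=
      { R.map (j.app D).hom with
        algebraMap_mem' := fun r => Subring.mem_map.2 ⟨_, h1 r, rfl⟩ }
    have hmem : (j.app D).hom z ∈ R' := (Algebra.adjoin_le (S := R') fun w hw => Subring.mem_map.2
      ⟨_, h2 _ (Finset.mem_image_of_mem _ hw), CommRingCat.hom_inv_apply (asIso (j.app D)) w⟩)
        (hc ▸ Algebra.mem_top : (j.app D).hom z ∈ Algebra.adjoin Γ(S, (V x.1).1) (c : Set Γ(X, j ⁻¹ᵁ D)))
    obtain ⟨w, hw, hwz⟩ := Subring.mem_map.1 hmem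
    exact (ConcreteCategory.bijective_of_isIso (j.app D)).1 hwz ▸ hw
  choose G hG using hft
  have hnum : ∀ (x : t) (z : G x), ∃ (n : ℕ) (c : Γ(Z, π ⁻¹ᵁ (V x.1).1)),
      z.1 * (Z.presheaf.map (homOfLE (Z.basicOpen_le (b x.1))).op).hom (b x.1) ^ n =
        (Z.presheaf.map (homOfLE (Z.basicOpen_le (b x.1))).op).hom c := fun x z => by
    haveI := ((V x.1).2.preimage π).isLocalization_basicOpen (b x.1)
    obtain ⟨n, c, h⟩ := IsLocalization.Away.surj (b x.1) z.1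
    exact ⟨n, c, h⟩
  choose nn cc hcc using hnum
  -- a finitely presented module hitting all the data
  let F := RelSpec.QCAlg.directImage π
  haveI : Coh.IsQCoh F.toModule := ProjBundleLib.isQCoh_toModule F
  obtain ⟨E, i, hE, hfp, hmem⟩ := FPApproxLib.exists_fp_through F.toModule
    (ι := t ⊕ Σ x : t, G x) (Sum.elim (fun x => (V x.1).1) fun p => (V p.1.1).1)
    (fun k => by rcases k with x | p; exacts [(V x.1).2, (V p.1.1).2])
    (fun k => match k with | .inl x => b x.1 | .inr p => cc p.1 p.2)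
  haveI := hE
  obtain ⟨ψ, hψ, -⟩ := RelSpecLib.isSymAlg_symAlg E F i
  let A := RelSpecLib.symAlg E
  let q₀ := RelSpecLib.lift A π ψ.hom
  have hq₀ : q₀ ≫ A.π = π := RelSpecLib.lift_π A π ψ.hom ψ.comm
  have hpre : ∀ U : S.Opens, q₀ ⁻¹ᵁ (A.π ⁻¹ᵁ U) = π ⁻¹ᵁ U := fun U => by rw [← Scheme.Hom.comp_preimage, hq₀]
  have himg : ∀ (U : S.affineOpens) (m : Γ(E, U.1)), ∃ σ,
      (q₀.appLE (A.π ⁻¹ᵁ U.1) (π ⁻¹ᵁ U.1) (hpre U.1).ge).hom σ = i.app U.1 m := fun U m => by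
    haveI := SpecQCAlg.isIso_gammaAff A U.1 U.2
    have h := RelSpecLib.gammaAff_algMap A π q₀ hq₀ U.1 U.2
    rw [show RelSpecLib.algMap A π q₀ hq₀ = ψ.hom from RelSpecLib.algMap_lift A π ψ.hom ψ.comm] at h
    obtain ⟨σ, hσ⟩ := (ConcreteCategory.bijective_of_isIso (A.gammaAff U.1 U.2)).2
      (RelSpecLib.jsec A (RelSpecLib.symJ E) m)
    refine ⟨σ, ?_⟩
    rw [← h, CommRingCat.comp_apply]
    erw [hσ]
    exact congrArg (fun k : E ⟶ F.toModule => k.app U.1 m) hψ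
  haveI : IsAffineHom A.π := ⟨fun U hU => RelSpecLib.isAffineOpen_preimage A U hU⟩
  haveI : IsAffineHom (q₀ ≫ A.π) := by rw [hq₀]; infer_instance
  haveI : IsAffineHom q₀ := IsAffineHom.of_comp q₀ A.π
  let T := q₀.image
  let q : Z ⟶ T := q₀.toImage
  let g : T ⟶ S := q₀.imageι ≫ A.π
  have hqg : q ≫ g = π := by rw [Scheme.Hom.toImage_imageι_assoc, hq₀]
  haveI := FPApproxLib.lfp_π_symAlg E hfp
  haveI : IsAffineHom (q ≫ q₀.imageι) := by rw [Scheme.Hom.toImage_imageι]; infer_instance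
  haveI : IsAffineHom q := IsAffineHom.of_comp q q₀.imageι
  have hle : ∀ U : S.Opens, π ⁻¹ᵁ U ≤ q ⁻¹ᵁ (g ⁻¹ᵁ U) := fun U => by rw [← Scheme.Hom.comp_preimage, hqg]
  have hθ : ∀ U : S.affineOpens, Function.Injective (q.appLE (g ⁻¹ᵁ U.1) (π ⁻¹ᵁ U.1) (hle U.1)).hom := fun U => by
    haveI : IsIso (Z.presheaf.map (homOfLE (hle U.1)).op) := by
      rw [Subsingleton.elim (homOfLE (hle U.1))
        (eqToHom (show π ⁻¹ᵁ U.1 = q ⁻¹ᵁ (g ⁻¹ᵁ U.1) by rw [← Scheme.Hom.comp_preimage, hqg]))]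
      infer_instance
    rw [Scheme.Hom.appLE, CommRingCat.hom_comp, RingHom.coe_comp]
    exact (ConcreteCategory.bijective_of_isIso (Z.presheaf.map (homOfLE (hle U.1)).op)).1.comp
      (q₀.toImage_app_injective ⟨A.π ⁻¹ᵁ U.1, RelSpecLib.isAffineOpen_preimage A U.1 U.2⟩)
  have hθimg : ∀ (U : S.affineOpens) (m : Γ(E, U.1)), ∃ τ,
      (q.appLE (g ⁻¹ᵁ U.1) (π ⁻¹ᵁ U.1) (hle U.1)).hom τ = i.app U.1 m := fun U m => by
    obtain ⟨σ, hσ⟩ := himg U m
    refine ⟨(q₀.imageι.appLE (A.π ⁻¹ᵁ U.1) (g ⁻¹ᵁ U.1) le_rfl).hom σ, ?_⟩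
    rw [← CommRingCat.comp_apply, Scheme.Hom.appLE_comp_appLE, ← hσ]
    simp only [q, Scheme.Hom.toImage_imageι]
  refine ⟨T, q, g, ?_, hqg, ?_, inferInstance⟩
  · refine (IsFinite.iff_isIntegralHom_and_locallyOfFiniteType _).mpr ⟨?_, inferInstance⟩
    refine (HasAffineProperty.iff_of_iSup_eq_top (P := @IsIntegralHom) (fun U : S.affineOpens => U)
      (iSup_affineOpens_eq_top S)).2 fun U => ⟨U.2.preimage g, ?_⟩
    rw [morphismRestrict_app, CommRingCat.hom_comp]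
    refine RingHom.IsIntegral.trans _ _ ?_ (RingHom.isIntegral_of_surjective _
      (ConcreteCategory.bijective_of_isIso _).2)
    have hint : (g.app U.1).hom.IsIntegral := by
      intro z
      have hfac : (q.appLE (g ⁻¹ᵁ U.1) (π ⁻¹ᵁ U.1) (hle U.1)).hom.comp (g.app U.1).hom = (π.app U.1).hom := by
        rw [← CommRingCat.hom_comp, ← Scheme.Hom.appLE_eq_app, Scheme.Hom.appLE_comp_appLE]
        simp only [hqg, Scheme.Hom.appLE_eq_app]
      obtain ⟨P, hP, hP0⟩ := IsIntegralHom.isIntegral_app π U.1 U.2 ((q.appLE (g ⁻¹ᵁ U.1) (π ⁻¹ᵁ U.1) (hle U.1)).hom z)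
      refine ⟨P, hP, hθ U ?_⟩
      rw [Polynomial.hom_eval₂, hfac, hP0, map_zero]
    have hV' : ∀ W : S.Opens, W = U.1 → (g.app W).hom.IsIntegral := fun W hW => by subst hW; exact hint
    exact hV' _ (Scheme.Opens.ι_image_top _)
  -- the open of `T` over which `q` is an isomorphism
  choose β hβ using fun x : t => (hmem (.inl x)).choose_spec ▸ hθimg (V x.1) (hmem (.inl x)).choose
  have hbij : ∀ x : t, ∃ e' : Z.basicOpen (b x.1) = q ⁻¹ᵁ T.basicOpen (β x),
      IsIso (q ∣_ T.basicOpen (β x)) := fun x => by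
    change ∀ x : t, (q.appLE (g ⁻¹ᵁ (V x.1).1) (π ⁻¹ᵁ (V x.1).1) _).hom (β x) = b x.1 at hβ
    have heq : Z.basicOpen (b x.1) = q ⁻¹ᵁ T.basicOpen (β x) := by
      rw [← hβ x, Scheme.basicOpen_appLE, Scheme.preimage_basicOpen]
      exact inf_eq_right.2 ((Z.basicOpen_le _).trans (by rw [← Scheme.Hom.comp_preimage, hqg]))
    refine ⟨heq, ?_⟩
    have hW₀ : IsAffineOpen (g ⁻¹ᵁ (V x.1).1) := (V x.1).2.preimage g
    let R₀ : Subring Γ(Z, Z.basicOpen (b x.1)) :=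
      { carrier := {z | ∃ (n : ℕ) (c : Γ(T, g ⁻¹ᵁ (V x.1).1)),
          z * (Z.presheaf.map (homOfLE (Z.basicOpen_le (b x.1))).op).hom (b x.1) ^ n =
            (Z.presheaf.map (homOfLE (Z.basicOpen_le (b x.1))).op).hom ((q.appLE _ _ (hle (V x.1).1)).hom c)}
        zero_mem' := ⟨0, 0, by simp⟩
        one_mem' := ⟨0, 1, by simp⟩
        neg_mem' := fun {z} ⟨n, c, h⟩ => ⟨n, -c, by rw [map_neg, map_neg, ← h]; ring⟩
        add_mem' := fun {z w} ⟨n, c, h⟩ ⟨m, d, h'⟩ => ⟨n + m, c * β x ^ m + d * β x ^ n, by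
          simp only [map_add, map_mul, map_pow, hβ x]
          rw [← h, ← h']
          ring⟩
        mul_mem' := fun {z w} ⟨n, c, h⟩ ⟨m, d, h'⟩ => ⟨n + m, c * d, by
          simp only [map_mul]
          rw [← h, ← h']
          ring⟩ }
    have htop : R₀ = ⊤ := hG x R₀ (fun r => ⟨0, (g.app (V x.1).1).hom r, by
        rw [pow_zero, mul_one, Scheme.Hom.app_eq_appLE, ← CommRingCat.comp_apply, ← CommRingCat.comp_apply,
          Scheme.Hom.appLE_map, Scheme.Hom.appLE_comp_appLE]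
        simp only [hqg]⟩) fun z hz => by
      obtain ⟨m, hm⟩ := hmem (.inr ⟨x, z, hz⟩)
      obtain ⟨τ, hτ⟩ := hθimg (V x.1) m
      refine ⟨nn x ⟨z, hz⟩, τ, (hcc x ⟨z, hz⟩).trans ?_⟩
      exact congrArg _ (hτ.trans hm).symm
    have hb := bijective_appLE_basicOpen q hW₀ ((V x.1).2.preimage π) (hle (V x.1).1) (hθ (V x.1)) (β x) (b x.1) (hβ x)
      heq.le R₀ (fun z hz => hz) htop
    have hDT : IsAffineOpen (T.basicOpen (β x)) := hW₀.basicOpen _
    haveI : IsAffine (T.basicOpen (β x)).toScheme := hDT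
    rw [← MorphismProperty.isomorphisms.iff, HasAffineProperty.iff_of_isAffine (P := MorphismProperty.isomorphisms Scheme.{u})]
    refine ⟨hDT.preimage q, ?_⟩
    have key : ∀ D, D = T.basicOpen (β x) → IsIso (q.app D) := by
      rintro _ rfl
      rw [Scheme.Hom.app_eq_appLE]
      have : ∀ (O : Z.Opens) (e : O ≤ q ⁻¹ᵁ T.basicOpen (β x)), O = Z.basicOpen (b x.1) →
          IsIso (q.appLE (T.basicOpen (β x)) O e) := by
        rintro _ e rfl
        exact (ConcreteCategory.isIso_iff_bijective _).2 hb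
      exact this _ _ heq.symm
    rw [morphismRestrict_appTop]
    haveI := key _ (Scheme.Opens.ι_image_top _)
    infer_instance
  let W : T.Opens := ⨆ x : t, T.basicOpen (β x)
  haveI : IsIso (q ∣_ W) := by
    rw [← MorphismProperty.isomorphisms.iff, IsZariskiLocalAtTarget.iff_of_iSup_eq_top
      (P := MorphismProperty.isomorphisms Scheme.{u}) (fun x : t => W.ι ⁻¹ᵁ T.basicOpen (β x))
      (by rw [← Scheme.Hom.preimage_iSup]; exact Scheme.Opens.ι_preimage_self W)]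
    intro x
    rw [(MorphismProperty.isomorphisms Scheme.{u}).arrow_mk_iso_iff (morphismRestrictRestrict q W _),
      show W.ι ''ᵁ W.ι ⁻¹ᵁ T.basicOpen (β x) = T.basicOpen (β x) by
        rw [Scheme.Hom.image_preimage_eq_opensRange_inf, Scheme.Opens.opensRange_ι]
        exact inf_eq_right.2 (le_iSup (fun x : t => T.basicOpen (β x)) x)]
    exact (hbij x).2
  have hrange : Set.range j ⊆ Set.range (q ⁻¹ᵁ W).ι := by
    rintro _ ⟨y, rfl⟩
    rw [Scheme.Opens.range_ι]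
    obtain ⟨x, hxt, hy⟩ := Set.mem_iUnion₂.1 (ht (Set.mem_univ y))
    exact Opens.mem_iSup.2 ⟨⟨x, hxt⟩, (hbij ⟨x, hxt⟩).1.le hy⟩
  have hfac := IsOpenImmersion.lift_fac (q ⁻¹ᵁ W).ι j hrange
  haveI : IsOpenImmersion (IsOpenImmersion.lift (q ⁻¹ᵁ W).ι j hrange ≫ (q ⁻¹ᵁ W).ι) := by rw [hfac]; infer_instance
  haveI : IsOpenImmersion (IsOpenImmersion.lift (q ⁻¹ᵁ W).ι j hrange) := IsOpenImmersion.of_comp _ (q ⁻¹ᵁ W).ι
  rw [← hfac, Category.assoc, ← morphismRestrict_ι]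
  infer_instance

end Groth.Agent.ZMTFactorLib
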