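/-
Finite schemes over a quasi-compact open extend to finite schemes over the whole base.
-/
import Groth.Agent.ZMTFactorLib.Basic

set_option autoImplicit false
set_option linter.style.haveILetI false
set_option backward.isDefEq.respectTransparency false
set_option backward.isDefEq.respectTransparency.types false

universe u

open CategoryTheory CategoryTheory.Limits AlgebraicGeometry TopologicalSpace Opposite

noncomputable section

namespace Groth.Agent.ZMTFactorLib

/-- A finite scheme over a quasi-compact open is the part over it of a finite scheme over the base. -/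
theorem exists_finite_extend {S U' : Scheme.{u}} [CompactSpace S] [QuasiSeparatedSpace S] (U : S.Opens)
    [QuasiCompact U.ι] (g : U' ⟶ U.toScheme) [IsFinite g] :
    ∃ (T : Scheme.{u}) (j : U' ⟶ T) (p : T ⟶ S), IsOpenImmersion j ∧ IsFinite p ∧ j ≫ p = g ≫ U.ι ∧
      (p ⁻¹ᵁ U : Set T) = Set.range j := by
  let f : U' ⟶ S := g ≫ U.ι
  haveI : LocallyOfFiniteType (f.toNormalization ≫ f.fromNormalization) := by
    rw [Scheme.Hom.toNormalization_fromNormalization]; infer_instance
  obtain ⟨T, q, π, hπ, hq, ho, hqc⟩ := exists_finite_factor f.fromNormalization f.toNormalization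
  haveI := hπ
  haveI := ho
  haveI := hqc
  let j₀ := f.toNormalization ≫ q
  haveI : IsImmersion j₀ := inferInstance
  let j := j₀.toImage
  let p : j₀.image ⟶ S := j₀.imageι ≫ π
  have hjp : j ≫ p = g ≫ U.ι := by
    rw [Scheme.Hom.toImage_imageι_assoc, Category.assoc, hq, Scheme.Hom.toNormalization_fromNormalization]
  haveI : IsOpenImmersion j := inferInstance
  haveI : IsFinite p := inferInstance
  have hsub : Set.range j ⊆ Set.range (p ⁻¹ᵁ U).ι := by
    rintro _ ⟨z, rfl⟩
    rw [Scheme.Opens.range_ι]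
    show p (j z) ∈ U
    rw [← Scheme.Hom.comp_apply, hjp]
    exact (g z).2
  let k : U' ⟶ (p ⁻¹ᵁ U).toScheme := IsOpenImmersion.lift (p ⁻¹ᵁ U).ι j hsub
  have hk : k ≫ (p ⁻¹ᵁ U).ι = j := IsOpenImmersion.lift_fac _ _ _
  have hkg : k ≫ (p ∣_ U) = g := by rw [← cancel_mono U.ι, Category.assoc, morphismRestrict_ι, reassoc_of% hk, hjp]
  haveI : IsFinite (p ∣_ U) := MorphismProperty.of_isPullback (isPullback_morphismRestrict p U).flip ‹_›
  haveI : IsFinite (k ≫ (p ∣_ U)) := by rw [hkg]; infer_instance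
  haveI : IsFinite k := IsFinite.of_comp k (p ∣_ U)
  refine ⟨_, j, p, inferInstance, inferInstance, hjp, Set.Subset.antisymm ?_ (hsub.trans (Scheme.Opens.range_ι _).le)⟩
  intro y hy
  by_contra hyj
  have hrange : Set.range j = (p ⁻¹ᵁ U).ι '' Set.range k := by
    rw [← Set.range_comp]; ext; simp [← hk]
  have ho2 : IsOpen ((p ⁻¹ᵁ U).ι '' (Set.range k)ᶜ) :=
    (p ⁻¹ᵁ U).ι.isOpenEmbedding.isOpenMap _ k.isClosedMap.isClosed_range.isOpen_compl
  obtain ⟨z, w, hw, hwz⟩ := (Scheme.Hom.denseRange j).exists_mem_open ho2 ⟨y, ⟨y, hy⟩, fun h => hyj (hrange ▸ ⟨_, h, rfl⟩), rfl⟩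
  refine hw ⟨z, (p ⁻¹ᵁ U).ι.isOpenEmbedding.injective ?_⟩
  rw [← Scheme.Hom.comp_apply, hk, hwz]

end Groth.Agent.ZMTFactorLib
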