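/-
Zariski's Main Theorem with a finite morphism of finite presentation.
-/
import Groth.Agent.ZMTFactorLib.Basic

set_option autoImplicit false
set_option linter.style.haveILetI false
set_option backward.isDefEq.respectTransparency false
set_option backward.isDefEq.respectTransparency.types false

universe u

open CategoryTheory CategoryTheory.Limits AlgebraicGeometry TopologicalSpace Opposite

noncomputable section

namespace Groth.Agent.ZMTFactorLib

/-- A quasi-compact open of finite presentation of a finite scheme survives in a finitely presented one. -/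
theorem exists_fp_thicken {S T X : Scheme.{u}} [CompactSpace S] [QuasiSeparatedSpace S] (g : T ⟶ S) [IsFinite g]
    (j : X ⟶ T) [IsOpenImmersion j] [QuasiCompact j] [LocallyOfFinitePresentation (j ≫ g)] :
    ∃ (T₁ : Scheme.{u}) (q : T ⟶ T₁) (g₁ : T₁ ⟶ S), IsFinite g₁ ∧ LocallyOfFinitePresentation g₁ ∧ q ≫ g₁ = g ∧
      IsOpenImmersion (j ≫ q) ∧ QuasiCompact (j ≫ q) := by
  classical
  -- a finitely presented finite scheme containing `T`
  obtain ⟨V, gV, jV, J₀, -, -, hjV, hjg, hJ₀, hJ₀fg, hfin⟩ := FPApproxLib.exists_embedding g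
  haveI := hjV
  obtain ⟨h₀, h₀'⟩ := hfin J₀ le_rfl hJ₀fg
  let T₀ := J₀.subscheme
  let h : T₀ ⟶ S := J₀.subschemeι ≫ gV
  haveI : IsFinite h := h₀
  haveI : LocallyOfFinitePresentation h := h₀'
  let i : T ⟶ T₀ := IsClosedImmersion.lift J₀.subschemeι jV (by rw [Scheme.IdealSheafData.ker_subschemeι]; exact hJ₀)
  have hi : i ≫ J₀.subschemeι = jV := IsClosedImmersion.lift_fac _ _ _
  haveI : IsClosedImmersion i := by
    haveI : IsClosedImmersion (i ≫ J₀.subschemeι) := by rw [hi]; infer_instance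
    exact IsClosedImmersion.of_comp i J₀.subschemeι
  have hih : i ≫ h = g := by rw [reassoc_of% hi, hjg]
  haveI : CompactSpace T₀ := QuasiCompact.compactSpace_of_compactSpace h
  haveI : QuasiSeparatedSpace T₀ := quasiSeparatedSpace_of_quasiSeparated h
  haveI : CompactSpace T := QuasiCompact.compactSpace_of_compactSpace g
  haveI : CompactSpace X := QuasiCompact.compactSpace_of_compactSpace j
  -- affine opens of `T₀` around the image of `X`
  obtain ⟨U', hU', hU'eq⟩ := i.isClosedEmbedding.isInducing.isOpen_iff.mp j.opensRange.2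
  have hx : ∀ x : X, ∃ (W : T₀.affineOpens) (Vs : S.affineOpens), i (j x) ∈ W.1 ∧ W.1 ≤ h ⁻¹ᵁ Vs.1 ∧
      i ⁻¹ᵁ W.1 ≤ j.opensRange := fun x => by
    obtain ⟨Vs, hVs, hxV, -⟩ := exists_isAffineOpen_mem_and_subset (X := S) (x := h (i (j x))) (U := ⊤) trivial
    have hxU : i (j x) ∈ U' := by
      have : j x ∈ i ⁻¹' U' := by rw [hU'eq]; exact ⟨x, rfl⟩
      exact this
    obtain ⟨W, hW, hxW, hle⟩ := exists_isAffineOpen_mem_and_subset (X := T₀) (x := i (j x))
      (U := ⟨U', hU'⟩ ⊓ h ⁻¹ᵁ Vs) ⟨hxU, hxV⟩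
    exact ⟨⟨W, hW⟩, ⟨Vs, hVs⟩, hxW, hle.trans inf_le_right, fun z hz => hU'eq.le (hle hz).1⟩
  choose W Vs hxW hWV hWj using hx
  obtain ⟨t, ht⟩ := isCompact_univ.elim_finite_subcover (fun x : X => ((j ⁻¹ᵁ i ⁻¹ᵁ (W x).1 : X.Opens) : Set X))
    (fun x => (j ⁻¹ᵁ i ⁻¹ᵁ (W x).1).isOpen) fun x _ => Set.mem_iUnion.2 ⟨x, hxW x⟩
  have hkerfg : ∀ x : X, (i.ker.ideal (W x)).FG := fun x => by
    let O := i ⁻¹ᵁ (W x).1
    have hO : IsAffineOpen O := (W x).2.preimage i
    have hXO : IsAffineOpen (j ⁻¹ᵁ O) := hO.preimage_of_isOpenImmersion j (hWj x)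
    have e : O ≤ g ⁻¹ᵁ (Vs x).1 := fun z hz => by rw [← hih]; exact hWV x hz
    have h1 := HasRingHomProperty.appLE (P := @LocallyOfFinitePresentation) (j ≫ g) inferInstance (Vs x)
      ⟨j ⁻¹ᵁ O, hXO⟩ (fun y hy => e hy)
    rw [← Scheme.Hom.appLE_comp_appLE j g (U := (Vs x).1) (V := O) (W := j ⁻¹ᵁ O) e le_rfl, Scheme.Hom.appLE_eq_app] at h1
    haveI : IsIso (j.app O) := Scheme.Hom.isIso_app j O (hWj x)
    have h2 : (g.appLE (Vs x).1 O e).hom.FinitePresentation := by
      have h3 := RingHom.FinitePresentation.comp (RingHom.FinitePresentation.of_bijective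
        (ConcreteCategory.bijective_of_isIso (inv (j.app O)))) h1
      rwa [← CommRingCat.hom_comp, Category.assoc, IsIso.hom_inv_id, Category.comp_id] at h3
    have h4 : h.appLE (Vs x).1 (W x).1 (hWV x) ≫ i.app (W x).1 = g.appLE (Vs x).1 O e := by
      rw [← Scheme.Hom.appLE_eq_app, Scheme.Hom.appLE_comp_appLE]
      simp only [hih, O]
    letI := (h.appLE (Vs x).1 (W x).1 (hWV x)).hom.toAlgebra
    letI := (g.appLE (Vs x).1 O e).hom.toAlgebra
    haveI : Algebra.FinitePresentation Γ(S, (Vs x).1) Γ(T₀, (W x).1) :=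
      HasRingHomProperty.appLE (P := @LocallyOfFinitePresentation) h inferInstance (Vs x) (W x) (hWV x)
    haveI : Algebra.FinitePresentation Γ(S, (Vs x).1) Γ(T, O) := h2
    rw [Scheme.Hom.ker_apply]
    exact Algebra.FinitePresentation.ker_fG_of_surjective
      ({ (i.app (W x).1).hom with commutes' := fun r => congrArg (fun k => k.hom r) h4 } :
        Γ(T₀, (W x).1) →ₐ[Γ(S, (Vs x).1)] Γ(T, O)) (i.app_surjective (W x).1 (W x).2)
  choose G hG using fun x : X => (hkerfg x)
  have hmem : ∀ (x : X) (a : G x), (a : Γ(T₀, (W x).1)) ∈ i.ker.ideal (W x) := fun x a =>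
    hG x ▸ Ideal.subset_span a.2
  choose K hKle hKfg hKmem using fun (x : X) (a : G x) => FTIdealLib.exists_ft_le_mem i.ker (W x) (hmem x a)
  let J : T₀.IdealSheafData := t.sup fun x => (G x).attach.sup (K x)
  have hsupfg : ∀ {α : Type u} (s : Finset α) (L : α → T₀.IdealSheafData),
      (∀ a ∈ s, ∀ U, ((L a).ideal U).FG) → ∀ U, ((s.sup L).ideal U).FG := by
    intro α s L
    induction s using Finset.induction with
    | empty => intro _ U; rw [Finset.sup_empty, Scheme.IdealSheafData.ideal_bot]; exact Submodule.fg_bot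
    | insert a s _ ih =>
      intro h U
      rw [Finset.sup_insert, Scheme.IdealSheafData.ideal_sup, Pi.sup_apply]
      exact Submodule.FG.sup (h a (Finset.mem_insert_self a s) U)
        (ih (fun b hb => h b (Finset.mem_insert_of_mem hb)) U)
  have hJle : J ≤ i.ker := Finset.sup_le fun x _ => Finset.sup_le fun a _ => hKle x a
  have hJfg : ∀ U, (J.ideal U).FG := hsupfg t _ fun x _ => hsupfg _ _ fun a _ => hKfg x a
  have hJW : ∀ x ∈ t, J.ideal (W x) = i.ker.ideal (W x) := fun x hx => le_antisymm (hJle (W x)) (by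
    rw [← hG x]
    exact Ideal.span_le.2 fun a ha => ((Finset.le_sup (f := K x) (Finset.mem_attach _ ⟨a, ha⟩)).trans
      (Finset.le_sup (f := fun x => (G x).attach.sup (K x)) hx)) (W x) (hKmem x ⟨a, ha⟩))
  haveI : LocallyOfFinitePresentation J.subschemeι :=
    (S4613.result J.subschemeι).mpr fun U => by rw [Scheme.IdealSheafData.ker_subschemeι_app]; exact hJfg U
  let q : T ⟶ J.subscheme := IsClosedImmersion.lift J.subschemeι i (by rw [Scheme.IdealSheafData.ker_subschemeι]; exact hJle)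
  have hq : q ≫ J.subschemeι = i := IsClosedImmersion.lift_fac _ _ _
  haveI : IsClosedImmersion q := by
    haveI : IsClosedImmersion (q ≫ J.subschemeι) := by rw [hq]; infer_instance
    exact IsClosedImmersion.of_comp q J.subschemeι
  refine ⟨_, q, J.subschemeι ≫ h, inferInstance, inferInstance, by rw [reassoc_of% hq, hih], ?_, inferInstance⟩
  let D : J.subscheme.Opens := ⨆ x : t, J.subschemeι ⁻¹ᵁ (W x.1).1
  haveI : IsIso (q ∣_ D) := by
    rw [← MorphismProperty.isomorphisms.iff, IsZariskiLocalAtTarget.iff_of_iSup_eq_top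
      (P := MorphismProperty.isomorphisms Scheme.{u}) (fun x : t => D.ι ⁻¹ᵁ J.subschemeι ⁻¹ᵁ (W x.1).1)
      (by rw [← Scheme.Hom.preimage_iSup]; exact Scheme.Opens.ι_preimage_self D)]
    intro x
    rw [(MorphismProperty.isomorphisms Scheme.{u}).arrow_mk_iso_iff (morphismRestrictRestrict q D _),
      show D.ι ''ᵁ D.ι ⁻¹ᵁ J.subschemeι ⁻¹ᵁ (W x.1).1 = J.subschemeι ⁻¹ᵁ (W x.1).1 by
        rw [Scheme.Hom.image_preimage_eq_opensRange_inf, Scheme.Opens.opensRange_ι]
        exact inf_eq_right.2 (le_iSup (fun x : t => J.subschemeι ⁻¹ᵁ (W x.1).1) x)]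
    have hDa : IsAffineOpen (J.subschemeι ⁻¹ᵁ (W x.1).1) := (W x.1).2.preimage _
    haveI : IsAffine (J.subschemeι ⁻¹ᵁ (W x.1).1).toScheme := hDa
    rw [HasAffineProperty.iff_of_isAffine (P := MorphismProperty.isomorphisms Scheme.{u})]
    refine ⟨hDa.preimage q, ?_⟩
    have key : ∀ O, O = J.subschemeι ⁻¹ᵁ (W x.1).1 → IsIso (q.app O) := by
      rintro _ rfl
      refine (ConcreteCategory.isIso_iff_bijective _).2 ⟨(injective_iff_map_eq_zero _).2 fun z hz => ?_,
        q.app_surjective _ hDa⟩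
      obtain ⟨w, rfl⟩ := J.subschemeι_app_surjective (W x.1) z
      have hw : w ∈ (q ≫ J.subschemeι).ker.ideal (W x.1) := by
        rw [Scheme.Hom.ker_apply, RingHom.mem_ker, Scheme.Hom.comp_app, CommRingCat.comp_apply]
        exact hz
      rw [hq, ← hJW x.1 x.2, ← Scheme.IdealSheafData.ker_subschemeι_app] at hw
      exact hw
    rw [morphismRestrict_appTop]
    haveI := key _ (Scheme.Opens.ι_image_top _)
    infer_instance
  have hrange : Set.range j ⊆ Set.range (q ⁻¹ᵁ D).ι := by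
    rintro _ ⟨y, rfl⟩
    rw [Scheme.Opens.range_ι]
    obtain ⟨x, hxt, hy⟩ := Set.mem_iUnion₂.1 (ht (Set.mem_univ y))
    refine Opens.mem_iSup.2 ⟨⟨x, hxt⟩, ?_⟩
    show J.subschemeι (q (j y)) ∈ (W x).1
    rw [← Scheme.Hom.comp_apply q J.subschemeι, hq]
    exact hy
  have hfac := IsOpenImmersion.lift_fac (q ⁻¹ᵁ D).ι j hrange
  haveI : IsOpenImmersion (IsOpenImmersion.lift (q ⁻¹ᵁ D).ι j hrange ≫ (q ⁻¹ᵁ D).ι) := by rw [hfac]; infer_instance
  haveI : IsOpenImmersion (IsOpenImmersion.lift (q ⁻¹ᵁ D).ι j hrange) := IsOpenImmersion.of_comp _ (q ⁻¹ᵁ D).ι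
  rw [← hfac, Category.assoc, ← morphismRestrict_ι]
  infer_instance

end Groth.Agent.ZMTFactorLib
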